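import Groth.Agent.ElemGlueLib.Main
import Groth.Prelude.Def_W4SpPerfMV

/-!
# Coverings of the small etale site attached to an elementary distinguished square
-/

set_option autoImplicit false
set_option backward.isDefEq.respectTransparency false
set_option backward.isDefEq.respectTransparency.types false
universe u
open CategoryTheory CategoryTheory.Limits AlgebraicGeometry Opposite AlgSp AlgSpLib

namespace MVSqLib

variable {S : Scheme.{u}} {X : Sp S}

theorem exists_pl (E E' : EtOver X) {T : EtOver X} (a : T ⟶ E) (b : T ⟶ E') :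
    ∃ l : T ⟶ EtOver.prodObj E E', l ≫ EtOver.prodFst E E' = a ∧ l ≫ EtOver.prodSnd E E' = b := by
  obtain ⟨l, h1, h2⟩ := BinaryFan.IsLimit.lift' (EtOver.prodIsLimit E E') a b
  exact ⟨l, h1, h2⟩

theorem pl_ext {E E' T : EtOver X} {l l' : T ⟶ EtOver.prodObj E E'}
    (h1 : l ≫ EtOver.prodFst E E' = l' ≫ EtOver.prodFst E E')
    (h2 : l ≫ EtOver.prodSnd E E' = l' ≫ EtOver.prodSnd E E') : l = l' :=
  BinaryFan.IsLimit.hom_ext (EtOver.prodIsLimit E E') h1 h2

theorem subsingleton_hom {U : EtOver X} (hU : RepWith @IsOpenImmersion U.obj.hom) (T : EtOver X) :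
    Subsingleton (T ⟶ U) := by
  refine ⟨fun a b => EtOver.hom_ext _ _ ?_⟩
  haveI : Mono U.obj.hom := mono_of_openImmersion hU
  exact (yon S).map_injective ((cancel_mono U.obj.hom).1 ((EtOver.w a).trans (EtOver.w b).symm))

/-- The underlying map of a morphism of the site. -/
noncomputable abbrev base {E E' : EtOver X} (g : E ⟶ E') (x : E.obj.left.left) : E'.obj.left.left :=
  g.hom.left.left x

theorem base_comp {E E' E'' : EtOver X} (g : E ⟶ E') (g' : E' ⟶ E'') (x : E.obj.left.left) :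
    base (g ≫ g') x = base g' (base g x) := by
  change (g.hom.left ≫ g'.hom.left).left x = _
  rw [Over.comp_left, Scheme.Hom.comp_apply]

/-- The point of the space under a point of an object of the site. -/
noncomputable abbrev pt (E : EtOver X) (x : E.obj.left.left) : Points X := Points.ofPt E.obj.hom x

theorem mem_range_snd {U : EtOver X} (E : EtOver X) (z : E.obj.left.left)
    (h : pt E z ∈ Set.range (Points.map U.obj.hom)) :
    z ∈ Set.range (base (prod.snd : U ⨯ E ⟶ E)) := by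
  obtain ⟨y, hy⟩ := h
  obtain ⟨p, hp, -⟩ := exists_point_isPullback (E.property.1.isPullback U.obj.hom) (Points.ofPt (𝟙 _) z) y (by
    rw [hy, Points.map_ofPt, Category.id_comp])
  obtain ⟨W₀, c, w, rfl⟩ := exists_ofPt_eq p
  have hz : z ∈ Set.range (base (EtOver.prodSnd U E)) := by
    obtain ⟨c', rfl⟩ := (yon S).map_surjective c
    refine ⟨c'.left w, ?_⟩
    have h2 := (Points.map_ofPt _ _ _).symm.trans hp
    rw [← Functor.relativelyRepresentable.map_fst', ofPt_yon_comp] at h2
    refine (Points.schemeHomeo E.obj.left).injective ?_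
    have h4 : ∀ (T : Over S) (x : T.left), Points.schemeHomeo T x = Points.ofPt (𝟙 ((yon S).obj T)) x := fun _ _ => rfl
    rw [h4, h4, ← h2]
    change _ = Points.ofPt ((yon S).map _) _
    conv_rhs => rw [← Category.comp_id ((yon S).map _), ofPt_yon_comp]
    rfl
  obtain ⟨x, hx⟩ := hz
  refine ⟨base (prod.lift (EtOver.prodFst U E) (EtOver.prodSnd U E)) x, ?_⟩
  rw [← base_comp, prod.lift_snd, hx]

section Sq

variable {U V : EtOver X} (hsq : IsElemDistSq U.obj.hom V.obj.hom)

include hsq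

theorem mem_or_mem (x : Points X) :
    x ∈ Set.range (Points.map U.obj.hom) ∨ x ∈ Set.range (Points.map V.obj.hom) := by
  obtain ⟨-, -, T, P, i, p₁, p₂, hi, sq, hp⟩ := hsq
  by_cases h : x ∈ Set.range (Points.map U.obj.hom)
  · exact Or.inl h
  · obtain ⟨t, rfl⟩ := hi.2.1.ge h
    refine Or.inr ⟨Points.map p₂ (Points.map (inv p₁) t), ?_⟩
    rw [← Points.map_comp, ← Points.map_comp]
    exact congrArg (Points.map · t) (by rw [← sq.w, IsIso.inv_hom_id_assoc])

/-- Two lifts to the etale part of a field point outside the open part agree. -/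
theorem field_eq {K : Over S} [IsReduced K.left] [Subsingleton ↥K.left] (a b : (yon S).obj K ⟶ (yon S).obj V.obj.left)
    (hab : a ≫ V.obj.hom = b ≫ V.obj.hom) (k : K.left)
    (hk : Points.ofPt (a ≫ V.obj.hom) k ∉ Set.range (Points.map U.obj.hom)) : a = b := by
  obtain ⟨-, -, T, P, i, p₁, p₂, hi, sq, hp⟩ := hsq
  let ξ := a ≫ V.obj.hom
  obtain ⟨W, c, fst, sqW⟩ := hi.1.1 ξ
  obtain ⟨t, ht⟩ := hi.2.1.ge hk
  obtain ⟨w, -, hw⟩ := exists_point_isPullback sqW t (Points.ofPt (𝟙 _) k) (by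
    rw [ht, Points.map_ofPt, Category.id_comp])
  haveI : IsClosedImmersion c.left := hi.1.2 ξ fst c sqW
  haveI : Surjective c.left := ⟨fun y => by
    obtain ⟨W', d, x, rfl⟩ := exists_ofPt_eq w
    obtain ⟨d', rfl⟩ := (yon S).map_surjective d
    exact ⟨d'.left x, Subsingleton.elim _ _⟩⟩
  haveI : IsIso c.left := isIso_of_isClosedImmersion_of_surjective c.left
  haveI : IsIso c := by
    haveI : IsIso ((Over.forget S).map c) := ‹IsIso c.left›
    exact isIso_of_reflects_iso c (Over.forget S)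
  let l := (yon S).map (inv c) ≫ fst
  have hl : l ≫ i = ξ := by
    rw [Category.assoc, sqW.w, ← Functor.map_comp_assoc, IsIso.inv_hom_id, CategoryTheory.Functor.map_id,
      Category.id_comp]
  have h1 := sq.lift_fst l a hl
  have h2 := sq.lift_fst l b (hl.trans hab)
  have e : sq.lift l a hl = sq.lift l b (hl.trans hab) := (cancel_mono p₁).1 (h1.trans h2.symm)
  rw [← sq.lift_snd l a hl, e, sq.lift_snd]

/-- The two pieces covering `V ⨯ Z` for a morphism `v : Z ⟶ V`. -/
theorem cover_graph {Z : EtOver X} (v : Z ⟶ V) (z : (V ⨯ Z).obj.left.left) :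
    z ∈ Set.range (base (prod.lift v (𝟙 Z))) ∨ z ∈ Set.range (base (prod.snd : U ⨯ (V ⨯ Z) ⟶ V ⨯ Z)) := by
  by_cases h : pt (V ⨯ Z) z ∈ Set.range (Points.map U.obj.hom)
  · exact Or.inr (mem_range_snd _ z h)
  refine Or.inl ?_
  let Y : Over S := (V ⨯ Z).obj.left
  let K : Over S := Over.mk (Y.left.fromSpecResidueField z ≫ Y.hom)
  haveI : IsReduced K.left := inferInstanceAs (IsReduced (Spec (Y.left.residueField z)))
  haveI : Subsingleton ↥K.left := inferInstanceAs (Subsingleton (PrimeSpectrum (Y.left.residueField z)))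
  let ξ : K ⟶ Y := Over.homMk (Y.left.fromSpecResidueField z) rfl
  let k : K.left := IsLocalRing.closedPoint (Y.left.residueField z)
  have hk : ξ.left k = z := Scheme.fromSpecResidueField_apply z _
  let p1 : (V ⨯ Z) ⟶ V := prod.fst
  let p2 : (V ⨯ Z) ⟶ Z := prod.snd
  have e1 : (ξ ≫ p1.hom.left) = ξ ≫ (p2 ≫ v).hom.left := by
    refine (yon S).map_injective (field_eq hsq _ _ ?_ k ?_)
    · rw [Functor.map_comp, Functor.map_comp, Category.assoc, Category.assoc, EtOver.w p1, EtOver.w (p2 ≫ v)]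
    · rw [Functor.map_comp, Category.assoc, EtOver.w p1, ofPt_yon_comp, hk]
      exact h
  refine ⟨base p2 z, ?_⟩
  rw [← base_comp]
  obtain ⟨l, hl1, hl2⟩ := exists_pl V Z p1 p2
  let e : V ⨯ Z ≅ EtOver.prodObj V Z :=
    (limit.isLimit (pair V Z)).conePointUniqueUpToIso (EtOver.prodIsLimit V Z)
  have he1 : e.hom ≫ EtOver.prodFst V Z = p1 :=
    IsLimit.conePointUniqueUpToIso_hom_comp _ _ (⟨WalkingPair.left⟩ : Discrete WalkingPair)
  have he2 : e.hom ≫ EtOver.prodSnd V Z = p2 :=
    IsLimit.conePointUniqueUpToIso_hom_comp _ _ (⟨WalkingPair.right⟩ : Discrete WalkingPair)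
  have key : ξ ≫ (p2 ≫ prod.lift v (𝟙 Z)).hom.left = ξ := by
    haveI : IsIso e.hom.hom.left := ((EtOver.forget X).mapIso e).isIso_hom
    rw [← cancel_mono e.hom.hom.left]
    refine Functor.relativelyRepresentable.hom_ext' _ ?_ ?_
    · change ((ξ ≫ (p2 ≫ prod.lift v (𝟙 Z)).hom.left) ≫ e.hom.hom.left) ≫ (EtOver.prodSnd V Z).hom.left =
        (ξ ≫ e.hom.hom.left) ≫ (EtOver.prodSnd V Z).hom.left
      simp only [Category.assoc]
      change ξ ≫ ((p2 ≫ prod.lift v (𝟙 Z)) ≫ e.hom ≫ EtOver.prodSnd V Z).hom.left =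
        ξ ≫ (e.hom ≫ EtOver.prodSnd V Z).hom.left
      rw [he2, Category.assoc, prod.lift_snd, Category.comp_id]
    · change ((ξ ≫ (p2 ≫ prod.lift v (𝟙 Z)).hom.left) ≫ e.hom.hom.left) ≫ (EtOver.prodFst V Z).hom.left =
        (ξ ≫ e.hom.hom.left) ≫ (EtOver.prodFst V Z).hom.left
      simp only [Category.assoc]
      change ξ ≫ ((p2 ≫ prod.lift v (𝟙 Z)) ≫ e.hom ≫ EtOver.prodFst V Z).hom.left =
        ξ ≫ (e.hom ≫ EtOver.prodFst V Z).hom.left
      rw [he1, Category.assoc, prod.lift_fst]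
      exact e1.symm
  have := congrArg (fun q : K ⟶ Y => q.left k) key
  simpa [hk, base, Over.comp_left] using this

theorem cover (E : EtOver X) (z : E.obj.left.left) :
    z ∈ Set.range (base (prod.snd : U ⨯ E ⟶ E)) ∨ z ∈ Set.range (base (prod.snd : V ⨯ E ⟶ E)) :=
  (mem_or_mem hsq (pt E z)).imp (mem_range_snd E z) (mem_range_snd E z)

end Sq

end MVSqLib
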