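import Groth.Agent.MVSqLib.Cover

/-!
# The Mayer-Vietoris sequence of direct images of an elementary distinguished square
-/

set_option autoImplicit false
set_option backward.isDefEq.respectTransparency false
set_option backward.isDefEq.respectTransparency.types false
universe u
open CategoryTheory CategoryTheory.Limits AlgebraicGeometry Opposite AlgSp

namespace MVSqLib

variable {S : Scheme.{u}} {X : Sp S}

/-- Sections of a module over an object of the site. -/
abbrev sec (F : ModEt X) (W : EtOver X) : Type (u + 1) := F.val.presheaf.obj (op W)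

/-- Restriction of sections. -/
noncomputable abbrev res (F : ModEt X) {A B : EtOver X} (k : A ⟶ B) : sec F B →+ sec F A :=
  (F.val.presheaf.map k.op).hom

/-- The value of a morphism of modules on sections. -/
noncomputable abbrev app {M N : ModEt X} (φ : M ⟶ N) (W : EtOver X) (x : sec M W) : sec N W := φ.val.app (op W) x

theorem res_comp (F : ModEt X) {A B C : EtOver X} (k : A ⟶ B) (l : B ⟶ C) (x : sec F C) :
    res F (k ≫ l) x = res F k (res F l x) := by
  change (F.val.presheaf.map (k ≫ l).op) x = (F.val.presheaf.map k.op) (F.val.presheaf.map l.op x)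
  rw [op_comp, Functor.map_comp, ConcreteCategory.comp_apply]

theorem res_id (F : ModEt X) {A : EtOver X} (x : sec F A) : res F (𝟙 A) x = x := by
  change (F.val.presheaf.map (𝟙 A).op) x = x
  rw [op_id, CategoryTheory.Functor.map_id]
  rfl

theorem res_of_eq_id (F : ModEt X) {A : EtOver X} {k : A ⟶ A} (hk : k = 𝟙 A) (x : sec F A) : res F k x = x := by
  rw [hk, res_id]

theorem res_congr (F : ModEt X) {A B : EtOver X} {k k' : A ⟶ B} (hk : k = k') (x : sec F B) :
    res F k x = res F k' x := by rw [hk]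

theorem existsUnique_glue (F : ModEt X) {W A B : EtOver X} (g₁ : A ⟶ W) (g₂ : B ⟶ W)
    (hcov : ∀ z, z ∈ Set.range (base g₁) ∨ z ∈ Set.range (base g₂)) (x : sec F A) (y : sec F B)
    (haa : ∀ (Z : EtOver X) (h h' : Z ⟶ A), h ≫ g₁ = h' ≫ g₁ → res F h x = res F h' x)
    (hab : ∀ (Z : EtOver X) (h : Z ⟶ A) (h' : Z ⟶ B), h ≫ g₁ = h' ≫ g₂ → res F h x = res F h' y)
    (hbb : ∀ (Z : EtOver X) (h h' : Z ⟶ B), h ≫ g₂ = h' ≫ g₂ → res F h y = res F h' y) :
    ∃! t : sec F W, res F g₁ t = x ∧ res F g₂ t = y := by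
  let Y : ULift.{u + 1} Bool → EtOver X := fun b => cond b.down A B
  let π : ∀ b, Y b ⟶ W := fun b => match b with
    | ⟨true⟩ => g₁
    | ⟨false⟩ => g₂
  have hmem : Sieve.ofArrows Y π ∈ etTop X W := ofArrows_mem_etTop Y π fun z => (hcov z).elim
    (fun h => ⟨⟨true⟩, h⟩) fun h => ⟨⟨false⟩, h⟩
  have hF : Presieve.IsSheaf (etTop X) (F.val.presheaf ⋙ forget AddCommGrpCat.{u + 1}) := by
    rw [← isSheaf_iff_isSheaf_of_type]
    exact (Presheaf.isSheaf_iff_isSheaf_forget (etTop X) F.val.presheaf (forget AddCommGrpCat.{u + 1})).1 F.isSheaf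
  have hfor := (Presieve.isSheafFor_iff_generate _).2 (hF _ hmem)
  rw [Presieve.isSheafFor_arrows_iff] at hfor
  let d : ∀ b, (F.val.presheaf ⋙ forget AddCommGrpCat.{u + 1}).obj (op (Y b)) := fun b => match b with
    | ⟨true⟩ => x
    | ⟨false⟩ => y
  have hd : Presieve.Arrows.Compatible (F.val.presheaf ⋙ forget AddCommGrpCat.{u + 1}) π d := by
    rintro ⟨_ | _⟩ ⟨_ | _⟩ Z h h' e
    · exact hbb Z h h' e
    · exact (hab Z h' h e.symm).symm
    · exact hab Z h h' e
    · exact haa Z h h' e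
  obtain ⟨t, ht, huniq⟩ := hfor d hd
  refine ⟨t, ⟨ht ⟨true⟩, ht ⟨false⟩⟩, fun t' ht' => huniq t' ?_⟩
  rintro ⟨_ | _⟩
  · exact ht'.2
  · exact ht'.1

theorem eq_of_res_eq (F : ModEt X) {W A B : EtOver X} (g₁ : A ⟶ W) (g₂ : B ⟶ W)
    (hcov : ∀ z, z ∈ Set.range (base g₁) ∨ z ∈ Set.range (base g₂)) (t t' : sec F W)
    (h₁ : res F g₁ t = res F g₁ t') (h₂ : res F g₂ t = res F g₂ t') : t = t' := by
  refine (existsUnique_glue F g₁ g₂ hcov (res F g₁ t) (res F g₂ t) ?_ ?_ ?_).unique ⟨rfl, rfl⟩ ⟨h₁.symm, h₂.symm⟩ <;>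
    exact fun Z h h' e => by rw [← res_comp, ← res_comp, e]

variable {U V : EtOver X} (hsq : IsElemDistSq U.obj.hom V.obj.hom) (F : ModEt X)

include hsq

theorem sub_U {T : EtOver X} (a b : T ⟶ U) : a = b := (subsingleton_hom hsq.1 T).elim a b

theorem ext_UW {W T : EtOver X} {h h' : T ⟶ U ⨯ W} (e : h ≫ prod.snd = h' ≫ prod.snd) : h = h' :=
  Limits.prod.hom_ext (sub_U hsq _ _) e

theorem glue_pair (W : EtOver X) (a : sec F (U ⨯ W)) (b : sec F (V ⨯ W))
    (hab : res F (prod.map (EtOver.prodFst U V) (𝟙 W)) a = res F (prod.map (EtOver.prodSnd U V) (𝟙 W)) b) :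
    ∃! t : sec F W, res F (prod.snd : U ⨯ W ⟶ W) t = a ∧ res F (prod.snd : V ⨯ W ⟶ W) t = b := by
  have key : ∀ (Z : EtOver X) (h : Z ⟶ U ⨯ W) (h' : Z ⟶ V ⨯ W), h ≫ prod.snd = h' ≫ prod.snd →
      res F h a = res F h' b := fun Z h h' e => by
    obtain ⟨l, hl1, hl2⟩ := exists_pl U V (h ≫ prod.fst) (h' ≫ prod.fst)
    let q : Z ⟶ EtOver.prodObj U V ⨯ W := prod.lift l (h ≫ prod.snd)
    have e1 : q ≫ prod.map (EtOver.prodFst U V) (𝟙 W) = h := ext_UW hsq (by simp [q])
    have e2 : q ≫ prod.map (EtOver.prodSnd U V) (𝟙 W) = h' :=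
      Limits.prod.hom_ext (by simp [q, hl2]) (by simp [q, e])
    rw [← e1, ← e2, res_comp, res_comp, hab]
  refine existsUnique_glue F _ _ (cover hsq W) a b (fun Z h h' e => by rw [ext_UW hsq e]) key ?_
  intro Z h h' e
  let Z₀ : EtOver X := V ⨯ (V ⨯ W)
  let m : Z₀ ⟶ V ⨯ W := prod.lift prod.fst (prod.snd ≫ prod.snd)
  have hm : res F m b = res F (prod.snd : Z₀ ⟶ V ⨯ W) b := by
    refine eq_of_res_eq F _ _ (cover_graph hsq (prod.fst : V ⨯ W ⟶ V)) _ _ ?_ ?_
    · rw [← res_comp, ← res_comp, prod.lift_snd]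
      refine res_congr F ?_ b
      exact Limits.prod.hom_ext (by simp [m]) (by simp [m])
    · rw [← res_comp, ← res_comp]
      let h₁ : U ⨯ Z₀ ⟶ U ⨯ W := prod.lift prod.fst (prod.snd ≫ prod.snd ≫ prod.snd)
      exact (key _ h₁ ((prod.snd : U ⨯ Z₀ ⟶ Z₀) ≫ m) (by simp [h₁, m])).symm.trans
        (key _ h₁ ((prod.snd : U ⨯ Z₀ ⟶ Z₀) ≫ prod.snd) (by simp [h₁]))
  let q : Z ⟶ Z₀ := prod.lift (h ≫ prod.fst) h'
  have e1 : q ≫ m = h := Limits.prod.hom_ext (by simp [q, m]) (by simp [q, m, e])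
  have e2 : q ≫ prod.snd = h' := prod.lift_snd _ _
  rw [← e1, ← e2, res_comp, res_comp, hm]

theorem exists_lift_U {W : EtOver X} (u : W ⟶ U) (s : sec F (EtOver.prodObj U V ⨯ W)) :
    ∃ (a : sec F (U ⨯ W)) (b : sec F (V ⨯ W)),
      res F (prod.map (EtOver.prodFst U V) (𝟙 W)) a - res F (prod.map (EtOver.prodSnd U V) (𝟙 W)) b = s := by
  obtain ⟨l, hl1, hl2⟩ := exists_pl U V ((prod.snd : V ⨯ W ⟶ W) ≫ u) prod.fst
  let q : V ⨯ W ⟶ EtOver.prodObj U V ⨯ W := prod.lift l prod.snd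
  refine ⟨0, - res F q s, ?_⟩
  rw [map_zero, zero_sub, map_neg, neg_neg, ← res_comp]
  refine res_of_eq_id F ?_ s
  refine Limits.prod.hom_ext (pl_ext (sub_U hsq _ _) ?_) (by simp [q])
  simp [q, hl2]

theorem exists_lift_V {W : EtOver X} (v : W ⟶ V) (s : sec F (EtOver.prodObj U V ⨯ W)) :
    ∃ (a : sec F (U ⨯ W)) (b : sec F (V ⨯ W)),
      res F (prod.map (EtOver.prodFst U V) (𝟙 W)) a - res F (prod.map (EtOver.prodSnd U V) (𝟙 W)) b = s := by
  obtain ⟨l, hl1, hl2⟩ := exists_pl U V (prod.fst : U ⨯ W ⟶ U) (prod.snd ≫ v)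
  let α : U ⨯ W ⟶ EtOver.prodObj U V ⨯ W := prod.lift l prod.snd
  let π₁ := prod.map (EtOver.prodFst U V) (𝟙 W)
  let π₂ := prod.map (EtOver.prodSnd U V) (𝟙 W)
  let γ : W ⟶ V ⨯ W := prod.lift v (𝟙 W)
  let t := res F π₁ (res F α s) - s
  have hπ : ∀ (Z : EtOver X) (h h' : Z ⟶ EtOver.prodObj U V ⨯ W), h ≫ π₂ = h' ≫ π₂ → h = h' := fun Z h h' e => by
    refine Limits.prod.hom_ext (pl_ext (sub_U hsq _ _) ?_) ?_
    · simpa [π₂] using congrArg (· ≫ (prod.fst : V ⨯ W ⟶ V)) e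
    · simpa [π₂] using congrArg (· ≫ (prod.snd : V ⨯ W ⟶ W)) e
  have hcov : ∀ z, z ∈ Set.range (base γ) ∨ z ∈ Set.range (base π₂) := fun z => by
    refine (cover_graph hsq v z).imp id ?_
    rintro ⟨x, hx⟩
    obtain ⟨l', hl1', hl2'⟩ := exists_pl U V (prod.fst : U ⨯ (V ⨯ W) ⟶ U) (prod.snd ≫ prod.fst)
    let k : U ⨯ (V ⨯ W) ⟶ EtOver.prodObj U V ⨯ W := prod.lift l' (prod.snd ≫ prod.snd)
    have hk : k ≫ π₂ = prod.snd := Limits.prod.hom_ext (by simp [k, π₂, hl2']) (by simp [k, π₂])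
    exact ⟨base k x, by rw [← base_comp, hk, hx]⟩
  obtain ⟨b, ⟨-, hb⟩, -⟩ := existsUnique_glue F γ π₂ hcov 0 t
    (fun Z h h' _ => by rw [map_zero, map_zero]) (fun Z h h' e => by
      rw [map_zero, eq_comm]
      change res F h' (res F π₁ (res F α s) - s) = 0
      rw [map_sub, sub_eq_zero, ← res_comp, ← res_comp]
      refine res_congr F ?_ s
      have e₁ : h = h' ≫ prod.snd := by simpa [γ, π₂] using congrArg (· ≫ (prod.snd : V ⨯ W ⟶ W)) e
      have e₂ : h ≫ v = h' ≫ prod.fst ≫ EtOver.prodSnd U V := by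
        simpa [γ, π₂] using congrArg (· ≫ (prod.fst : V ⨯ W ⟶ V)) e
      refine Limits.prod.hom_ext (pl_ext (sub_U hsq _ _) ?_) (by simp [α, π₁])
      simp only [α, π₁, Category.assoc, prod.lift_fst, hl2, prod.map_snd_assoc, Category.id_comp]
      rw [← e₂, e₁, Category.assoc])
    (fun Z h h' e => by rw [hπ Z h h' e])
  refine ⟨res F α s, b, ?_⟩
  rw [hb]
  exact sub_sub_cancel _ _

/-- The Mayer-Vietoris sequence is short exact. -/
theorem main : ∃ h : biprod.lift ((resPushAdjEt U).unit.app F) ((resPushAdjEt V).unit.app F) ≫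
      biprod.desc ((pushResNatTrans (EtOver.prodFst U V)).app F)
        (-((pushResNatTrans (EtOver.prodSnd U V)).app F)) = 0,
    (ShortComplex.mk _ _ h).ShortExact := by
  let P := EtOver.prodObj U V
  let ηU := (resPushAdjEt U).unit.app F
  let ηV := (resPushAdjEt V).unit.app F
  let ρU := (pushResNatTrans (EtOver.prodFst U V)).app F
  let ρV := (pushResNatTrans (EtOver.prodSnd U V)).app F
  let ι := biprod.lift ηU ηV
  let π := biprod.desc ρU (-ρV)
  have hι₁ : ∀ W (x : sec F W), app (biprod.fst) W (app ι W x) = res F (prod.snd : U ⨯ W ⟶ W) x := fun W x => by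
    change app (ι ≫ biprod.fst) W x = _
    rw [biprod.lift_fst]
    rfl
  have hι₂ : ∀ W (x : sec F W), app (biprod.snd) W (app ι W x) = res F (prod.snd : V ⨯ W ⟶ W) x := fun W x => by
    change app (ι ≫ biprod.snd) W x = _
    rw [biprod.lift_snd]
    rfl
  let B := (resModEt U ⋙ pushOnModEt U).obj F ⊞ (resModEt V ⋙ pushOnModEt V).obj F
  have hπ : ∀ W (y : sec B W), app π W y =
      res F (prod.map (EtOver.prodFst U V) (𝟙 W)) (app biprod.fst W y) -
        res F (prod.map (EtOver.prodSnd U V) (𝟙 W)) (app biprod.snd W y) := fun W y => by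
    rw [show π = biprod.fst ≫ ρU + biprod.snd ≫ (-ρV) from biprod.desc_eq, sub_eq_add_neg]
    rfl
  have hext : ∀ W (y y' : sec B W), app biprod.fst W y = app biprod.fst W y' →
      app biprod.snd W y = app biprod.snd W y' → y = y' := fun W y y' h1 h2 => by
    have e : ∀ z : sec B W, app biprod.inl W (app biprod.fst W z) + app biprod.inr W (app biprod.snd W z) = z :=
      fun z => by
        change app (biprod.fst ≫ biprod.inl + biprod.snd ≫ biprod.inr) W z = z
        rw [biprod.total]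
        rfl
    rw [← e y, h1, h2, e y']
  have hmk : ∀ W (a : sec ((resModEt U ⋙ pushOnModEt U).obj F) W) (b : sec ((resModEt V ⋙ pushOnModEt V).obj F) W),
      ∃ y : sec B W, app biprod.fst W y = a ∧ app biprod.snd W y = b := fun W a b => by
    refine ⟨app biprod.inl W a + app biprod.inr W b, ?_, ?_⟩
    · change (biprod.fst : B ⟶ _).val.app (op W) (_ + _) = a
      rw [map_add]
      change app (biprod.inl ≫ biprod.fst) W a + app (biprod.inr ≫ biprod.fst) W b = a
      rw [biprod.inl_fst, biprod.inr_fst]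
      exact add_zero a
    · change (biprod.snd : B ⟶ _).val.app (op W) (_ + _) = b
      rw [map_add]
      change app (biprod.inl ≫ biprod.snd) W a + app (biprod.inr ≫ biprod.snd) W b = b
      rw [biprod.inl_snd, biprod.inr_snd]
      exact zero_add b
  have hz : ι ≫ π = 0 := by
    ext W x
    change app π W.unop (app ι W.unop x) = 0
    rw [hπ, hι₁, hι₂, sub_eq_zero, ← res_comp, ← res_comp, prod.map_snd, prod.map_snd, Category.comp_id]
  have hinj : ∀ W, Function.Injective (app ι W) := fun W x x' e => by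
    refine eq_of_res_eq F _ _ (cover hsq W) x x' ?_ ?_
    · rw [← hι₁, ← hι₁, e]
    · rw [← hι₂, ← hι₂, e]
  have hsurj : ∀ W (y : sec B W), app π W y = 0 → ∃ x, app ι W x = y := fun W y hy => by
    rw [hπ, sub_eq_zero] at hy
    obtain ⟨x, ⟨hx₁, hx₂⟩, -⟩ := glue_pair hsq F W _ _ hy
    exact ⟨x, hext W _ _ ((hι₁ W x).trans hx₁) ((hι₂ W x).trans hx₂)⟩
  let Sc := ShortComplex.mk ι π hz
  let G : ModEt X ⥤ Sheaf (etTop X) AddCommGrpCat.{u + 1} := SheafOfModules.toSheaf _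
  haveI : Mono ι := by
    refine G.mono_of_mono_map ?_
    haveI : ∀ W, Mono ((G.map ι).hom.app W) := fun W =>
      (AddCommGrpCat.mono_iff_injective _).2 (hinj W.unop)
    haveI := NatTrans.mono_of_mono_app (G.map ι).hom
    exact (sheafToPresheaf _ _).mono_of_mono_map (f := G.map ι) this
  haveI : Epi π := by
    refine G.epi_of_epi_map ?_
    rw [← Sheaf.isLocallySurjective_iff_epi']
    refine ⟨fun {W} s => ?_⟩
    refine (etTop X).superset_covering ?_ (ofArrows_mem_etTop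
      (fun b : ULift.{u + 1} Bool => cond b.down (U ⨯ W) (V ⨯ W)) (fun b => match b with
        | ⟨true⟩ => prod.snd
        | ⟨false⟩ => prod.snd) fun z => (cover hsq W z).elim (fun h => ⟨⟨true⟩, h⟩) fun h => ⟨⟨false⟩, h⟩)
    rw [Sieve.ofArrows, Sieve.generate_le_iff]
    rintro Y f ⟨⟨_ | _⟩⟩
    · obtain ⟨a, b, hab⟩ := exists_lift_V hsq F (prod.fst : V ⨯ W ⟶ V)
        (res ((resModEt P ⋙ pushOnModEt P).obj F) (prod.snd : V ⨯ W ⟶ W) s)
      obtain ⟨y, hy₁, hy₂⟩ := hmk (V ⨯ W) a b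
      exact ⟨y, (hπ _ y).trans (by rw [hy₁, hy₂]; exact hab)⟩
    · obtain ⟨a, b, hab⟩ := exists_lift_U hsq F (prod.fst : U ⨯ W ⟶ U)
        (res ((resModEt P ⋙ pushOnModEt P).obj F) (prod.snd : U ⨯ W ⟶ W) s)
      obtain ⟨y, hy₁, hy₂⟩ := hmk (U ⨯ W) a b
      exact ⟨y, (hπ _ y).trans (by rw [hy₁, hy₂]; exact hab)⟩
  refine ⟨hz, ShortComplex.ShortExact.mk' ?_ inferInstance inferInstance⟩
  let l := kernel.lift π ι hz
  have hl : l ≫ kernel.ι π = ι := kernel.lift_ι _ _ _
  have hkinj : ∀ W, Function.Injective (app (kernel.ι π) W) := fun W x x' e => by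
    haveI := (G ⋙ sheafToPresheaf (etTop X) _ ⋙ (CategoryTheory.evaluation _ AddCommGrpCat.{u + 1}).obj (op W)).map_mono
      (kernel.ι π)
    exact (AddCommGrpCat.mono_iff_injective _).1 this e
  haveI : IsIso (G.map l) := by
    haveI : ∀ W, IsIso ((G.map l).hom.app W) := fun W => by
      rw [ConcreteCategory.isIso_iff_bijective]
      refine ⟨fun x x' e => hinj W.unop ?_, fun z => ?_⟩
      · rw [← hl]
        exact congrArg (app (kernel.ι π) W.unop) e
      · obtain ⟨x, hx⟩ := hsurj W.unop (app (kernel.ι π) W.unop z) (by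
          change app (kernel.ι π ≫ π) W.unop z = 0
          rw [kernel.condition]
          rfl)
        refine ⟨x, hkinj W.unop ?_⟩
        rw [← hl] at hx
        exact hx
    haveI := NatIso.isIso_of_isIso_app (G.map l).hom
    exact @isIso_of_fully_faithful _ _ _ _ (sheafToPresheaf _ _) _ _ _ _ (G.map l) this
  haveI : IsIso l := isIso_of_reflects_iso l G
  exact ShortComplex.exact_of_f_is_kernel _ (IsLimit.ofIsoLimit (kernelIsKernel π)
    (Fork.ext (asIso l) hl).symm)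

end MVSqLib
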