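import Groth.Agent.MVSqLib.Main
import Groth.Agent.ModEtInjLib.Basic

/-!
# The Mayer-Vietoris sequence of extensions by zero of an elementary distinguished square
-/

set_option autoImplicit false
set_option backward.isDefEq.respectTransparency false
set_option backward.isDefEq.respectTransparency.types false
universe u
open CategoryTheory CategoryTheory.Limits AlgebraicGeometry Opposite AlgSp

namespace MVSqLib

variable {S : Scheme.{u}} {X : Sp S}

theorem enoughInjectives_modEt (X : Sp S) : EnoughInjectives (ModEt X) :=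
  ModEtInjLib.enoughInjectives_sheaf (OEtRing X)

theorem homEquiv_shriekRes {U' U : EtOver X} (g : U' ⟶ U) [(resModEt U).IsRightAdjoint]
    [(resModEt U').IsRightAdjoint] {F G : ModEt X} (h : (shriekRes U).obj F ⟶ G) :
    (shriekResAdj U').homEquiv F G ((shriekResNatTrans g).app F ≫ h) =
      (shriekResAdj U).homEquiv F G h ≫ (pushResNatTrans g).app G := by
  rw [Adjunction.homEquiv_unit, Adjunction.homEquiv_unit, Functor.map_comp]
  have e := unit_conjugateEquiv_symm (shriekResAdj U) (shriekResAdj U') (pushResNatTrans g) F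
  exact (Category.assoc _ _ _).symm.trans ((congrArg (· ≫ (resModEt U' ⋙ pushOnModEt U').map h) e.symm).trans
    ((Category.assoc _ _ _).trans ((congrArg ((shriekResAdj U).unit.app F ≫ ·)
      ((pushResNatTrans g).naturality h).symm).trans (Category.assoc _ _ _).symm)))

theorem homEquiv_counit {U : EtOver X} [(resModEt U).IsRightAdjoint] {F G : ModEt X} (h : F ⟶ G) :
    (shriekResAdj U).homEquiv F G ((Adjunction.ofIsRightAdjoint (resModEt U)).counit.app F ≫ h) =
      h ≫ (resPushAdjEt U).unit.app G := by
  have e : (Adjunction.ofIsRightAdjoint (resModEt U)).homEquiv ((resModEt U).obj F) G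
      ((Adjunction.ofIsRightAdjoint (resModEt U)).counit.app F ≫ h) = (resModEt U).map h := by
    rw [Adjunction.homEquiv_unit, Functor.map_comp, ← Category.assoc, Adjunction.right_triangle_components,
      Category.id_comp]
  rw [shriekResAdj, Adjunction.comp_homEquiv]
  change (resPushAdjEt U).homEquiv _ _ ((Adjunction.ofIsRightAdjoint (resModEt U)).homEquiv _ _ _) = _
  rw [e, Adjunction.homEquiv_unit]
  exact ((resPushAdjEt U).unit.naturality h).symm

variable {U V : EtOver X} (hsq : IsElemDistSq U.obj.hom V.obj.hom) (F : ModEt X)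
  [(resModEt U).IsRightAdjoint] [(resModEt V).IsRightAdjoint] [(resModEt (EtOver.prodObj U V)).IsRightAdjoint]

include hsq

theorem mainShriek :
    ∃ h : biprod.lift ((shriekResNatTrans (EtOver.prodFst U V)).app F)
          (-((shriekResNatTrans (EtOver.prodSnd U V)).app F)) ≫
        biprod.desc ((Adjunction.ofIsRightAdjoint (resModEt U)).counit.app F)
          ((Adjunction.ofIsRightAdjoint (resModEt V)).counit.app F) = 0,
      (ShortComplex.mk _ _ h).ShortExact := by
  let P := EtOver.prodObj U V
  let a := (shriekResNatTrans (EtOver.prodFst U V)).app F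
  let b := (shriekResNatTrans (EtOver.prodSnd U V)).app F
  let cU : (shriekRes U).obj F ⟶ F := (Adjunction.ofIsRightAdjoint (resModEt U)).counit.app F
  let cV : (shriekRes V).obj F ⟶ F := (Adjunction.ofIsRightAdjoint (resModEt V)).counit.app F
  have hcomm : ∀ G : ModEt X, (resPushAdjEt U).unit.app G ≫ (pushResNatTrans (EtOver.prodFst U V)).app G =
      (resPushAdjEt V).unit.app G ≫ (pushResNatTrans (EtOver.prodSnd U V)).app G := fun G => by
    obtain ⟨h, -⟩ := main hsq G
    simpa [biprod.lift_desc, ← sub_eq_add_neg, sub_eq_zero] using h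
  have hab : a ≫ cU = b ≫ cV := by
    apply ((shriekResAdj P).homEquiv F F).injective
    have eU : (shriekResAdj U).homEquiv F F cU = (resPushAdjEt U).unit.app F :=
      (congrArg ((shriekResAdj U).homEquiv F F) (Category.comp_id cU).symm).trans
        ((homEquiv_counit (𝟙 F)).trans (Category.id_comp _))
    have eV : (shriekResAdj V).homEquiv F F cV = (resPushAdjEt V).unit.app F :=
      (congrArg ((shriekResAdj V).homEquiv F F) (Category.comp_id cV).symm).trans
        ((homEquiv_counit (𝟙 F)).trans (Category.id_comp _))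
    have h1 := homEquiv_shriekRes (EtOver.prodFst U V) (F := F) cU
    have h2 := homEquiv_shriekRes (EtOver.prodSnd U V) (F := F) cV
    rw [eU] at h1
    rw [eV] at h2
    exact h1.trans ((hcomm F).trans h2.symm)
  have hz : biprod.lift a (-b) ≫ biprod.desc cU cV = 0 := by
    simp [biprod.lift_desc, hab]
  haveI : Epi (biprod.desc cU cV) := by
    refine Preadditive.epi_of_cancel_zero _ fun {G} h hh => ?_
    have hh' : biprod.desc cU cV ≫ h = 0 := hh
    have h1 : cU ≫ h = cU ≫ 0 := by simpa using congrArg (biprod.inl ≫ ·) hh'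
    have h2 : cV ≫ h = cV ≫ 0 := by simpa using congrArg (biprod.inr ≫ ·) hh'
    have e1 := congrArg ((shriekResAdj U).homEquiv F G) h1
    have e2 := congrArg ((shriekResAdj V).homEquiv F G) h2
    rw [homEquiv_counit, homEquiv_counit, zero_comp] at e1 e2
    obtain ⟨hzG, hG⟩ := main hsq G
    haveI := hG.mono_f
    exact zero_of_comp_mono (biprod.lift ((resPushAdjEt U).unit.app G) ((resPushAdjEt V).unit.app G))
      (biprod.hom_ext _ _ (by simp [e1]) (by simp [e2]))
  refine ⟨hz, ShortComplex.ShortExact.mk' ?_ ?_ ‹_›⟩
  · refine ShortComplex.exact_of_g_is_cokernel _ ?_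
    have hex : ∀ {G : ModEt X} (k : (shriekRes U).obj F ⊞ (shriekRes V).obj F ⟶ G),
        biprod.lift a (-b) ≫ k = 0 → ∃ l : F ⟶ G, biprod.desc cU cV ≫ l = k := ?_
    · exact CokernelCofork.IsColimit.ofπ' _ _ fun {G} k hk => ⟨(hex k hk).choose, (hex k hk).choose_spec⟩
    intro G k hk
    have hk' : a ≫ biprod.inl ≫ k = b ≫ biprod.inr ≫ k := by
      have : biprod.lift a (-b) ≫ k = 0 := hk
      rw [biprod.lift_eq, Preadditive.add_comp] at this
      simpa [← sub_eq_add_neg, sub_eq_zero, Category.assoc] using this
    obtain ⟨hzG, hG⟩ := main hsq G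
    let x := (shriekResAdj U).homEquiv F G (biprod.inl ≫ k)
    let y := (shriekResAdj V).homEquiv F G (biprod.inr ≫ k)
    have hxy : x ≫ (pushResNatTrans (EtOver.prodFst U V)).app G =
        y ≫ (pushResNatTrans (EtOver.prodSnd U V)).app G := by
      rw [← homEquiv_shriekRes, ← homEquiv_shriekRes]
      exact congrArg _ hk'
    haveI := hG.mono_f
    obtain ⟨t, ht⟩ := KernelFork.IsLimit.lift' hG.exact.fIsKernel (biprod.lift x y)
      (by simp [biprod.lift_desc, hxy])
    refine ⟨t, ?_⟩
    refine biprod.hom_ext' _ _ ?_ ?_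
    · rw [biprod.inl_desc_assoc]
      apply ((shriekResAdj U).homEquiv F G).injective
      rw [homEquiv_counit]
      have := congrArg (· ≫ biprod.fst) ht
      simpa [x] using this
    · rw [biprod.inr_desc_assoc]
      apply ((shriekResAdj V).homEquiv F G).injective
      rw [homEquiv_counit]
      have := congrArg (· ≫ biprod.snd) ht
      simpa [y] using this
  · refine Preadditive.mono_of_cancel_zero _ fun {K} κ hκ => ?_
    have hκ' : κ ≫ biprod.lift a (-b) = 0 := hκ
    have ha : κ ≫ a = 0 := by simpa using congrArg (· ≫ biprod.fst) hκ'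
    have hb : κ ≫ b = 0 := by simpa using congrArg (· ≫ biprod.snd) hκ'
    haveI := enoughInjectives_modEt X
    let I := Injective.under ((shriekRes P).obj F)
    let j := Injective.ι ((shriekRes P).obj F)
    obtain ⟨hzI, hI⟩ := main hsq I
    let s := (hI.splittingOfInjective).s
    have hs := (hI.splittingOfInjective).s_g
    let j' := (shriekResAdj P).homEquiv F I j
    let x := ((shriekResAdj U).homEquiv F I).symm (j' ≫ s ≫ biprod.fst)
    let y := ((shriekResAdj V).homEquiv F I).symm (j' ≫ s ≫ biprod.snd)
    have hj : j = a ≫ x - b ≫ y := by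
      apply ((shriekResAdj P).homEquiv F I).injective
      have hx := homEquiv_shriekRes (EtOver.prodFst U V) (F := F) x
      have hy := homEquiv_shriekRes (EtOver.prodSnd U V) (F := F) y
      rw [Equiv.apply_symm_apply] at hx hy
      conv_rhs => rw [Adjunction.homEquiv_unit, Functor.map_sub, Preadditive.comp_sub, ← Adjunction.homEquiv_unit,
        ← Adjunction.homEquiv_unit, hx, hy]
      conv_lhs => rw [show (shriekResAdj P).homEquiv F I j = j' ≫ 𝟙 _ from (Category.comp_id _).symm, ← hs]
      simp [s, biprod.desc_eq, Preadditive.comp_add, sub_eq_add_neg, Category.assoc]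
    rw [← cancel_mono j, zero_comp, hj, Preadditive.comp_sub, reassoc_of% ha, reassoc_of% hb]
    simp
end MVSqLib
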